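import Cfsg.Agent.CHEV.RT.Geo3

/-!
# Root involution theorem, thin geometry: the strong form of `Geo.tr`
-/

set_option autoImplicit false
set_option linter.unusedSectionVars false
set_option linter.unusedVariables false

open Cfsg CL.RootInv CL.OddT CL.RootStr CL.SL2Hom

namespace CL.RT

variable {G : Type*} [Group G] [Finite G] {D : Set G} (H : Geo D) {k : Type} [Field k] [Finite k]
  {y0 y1 y2 y3 : k → G} (C : Crd D y0 y1 y2 y3) {a : k} (ha : a ≠ 0) (ha1 : a ≠ 1)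
include H C ha ha1

/-- TR. -/
theorem Geo.tr2 {p : ℕ} (hp : p.Prime) (hp2 : p ≠ 2) (hap : a ^ p = 1)
    (hA : AllFix D (y0 1) (hh y0 y3 a)) {l l' : G} (hl : l ∈ D) (hl' : l' ∈ D)
    (h1 : Commute (y0 1) l) (h2 : Commute (y0 1) l') (h3 : Fo l (y1 1)) (h4 : Fo l' (y1 1)) :
    ∃ c ∈ N D (y1 1), (∀ t, Commute c (y0 t)) ∧ (∀ t, Commute c (y2 t)) ∧ (∀ t, Commute c (y3 t)) ∧
      Commute c (hh y0 y3 a) ∧ Commute l' (c * l * c⁻¹) := by
  have hD := H.hD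
  have P := C.path1
  have cye := (P.xp1 hD).comm
  have s0 := C.p0.sm_of (pow_ne_zero 2 ha) (C.h0 hD ha)
  have s1 := C.p1.sm_of ha (C.h1 hD ha)
  have hp1 : hh y0 y3 a ^ p = 1 := by rw [C.h_pow hD ha, hap, C.rel.h_one]
  have cent := fun c => H.cent C ha ha1 (c := c)
  set h := hh y0 y3 a with hh'
  obtain ⟨r, m, c, t⟩ := H.trans_lines P.ht P.hc hl hl' cye h1 h2 h3 h4
  have cr := c _ (self_mem_B P.ht)
  obtain ⟨St, hSt⟩ := H.exists_St P.ht hl' h2 (H.nsm P.hc hl' cye h4.symm)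
  have d1 : h * r * h⁻¹ * r⁻¹ ∈ N D (y1 1) := mul_mem (H.norm_N s1 m) (inv_mem m)
  have d2 : ∀ b ∈ B D (y0 1), Commute (h * r * h⁻¹ * r⁻¹) b := fun b hb =>
    (H.norm_CB s0 c b hb).mul_left (c b hb).inv_left
  have d3 : h * r * h⁻¹ * r⁻¹ ∈ St := by
    have b1 : r * h * r⁻¹ ∈ St := (hSt _).2 ⟨H.sm_mul (H.sm_mul (sm_of_comm cr) s0)
      (sm_of_comm cr.inv_left), by
        have := (commute_conj_iff r).2 (hA _ (conj hD hl' r⁻¹)
          (H.fixc (sm_of_comm cr.inv_left) hl' h2))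
        simpa [mul_assoc] using this⟩
    have := mul_mem ((hSt _).2 ⟨s0, hA _ hl' h2⟩) (inv_mem b1)
    simpa [mul_assoc] using this
  have d4 := H.stab P.ht P.hc hl' cye h2 h4 d1 (d2 _ (self_mem_B P.ht)) ((hSt _).1 d3).2
  obtain ⟨s, ⟨⟨m1, c1⟩, m2⟩, j, hj⟩ := exists_conj_mem
    (R := (N D (y1 1) ⊓ Subgroup.centralizer (B D (y0 1) : Set G)) ⊓ N D (y0 1))
    (St := Subgroup.zpowers (r * h * r⁻¹)) ((H.pN _).to_le inf_le_right) hp hp2 hp1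
    (fun r hr => ⟨⟨H.norm_N s1 hr.1.1, mem_CB.2 (H.norm_CB s0 (mem_CB.1 hr.1.2))⟩,
      H.norm_N s0 hr.2⟩)
    ⟨_, ⟨⟨d1, mem_CB.2 d2⟩, d4⟩, by simp [mul_assoc]⟩
  have mc : s * r ∈ N D (y1 1) := mul_mem m1 m
  have cc : Commute (s * r) (y0 1) := (mem_CB.1 c1 _ (self_mem_B P.ht)).mul_left cr
  have ch : Commute (s * r) h := by
    have e1 : (s * r)⁻¹ * (h * (s * r) * h⁻¹) = h ^ (j - 1) := by
      simp only [conj_zpow] at hj
      calc _ = r⁻¹ * (s⁻¹ * h * s) * r * h⁻¹ := by group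
        _ = _ := by rw [← hj]; group
    obtain ⟨n, hn⟩ := H.pN _ ⟨_, mul_mem (inv_mem mc) (H.norm_N s1 mc)⟩
    have e2 : (h ^ (j - 1)) ^ 2 ^ n = 1 := e1 ▸ congrArg Subtype.val hn
    have e3 : (h ^ (j - 1)) ^ p = 1 := by
      rw [← zpow_natCast, ← zpow_mul, mul_comm, zpow_mul, zpow_natCast, hp1, one_zpow]
    have e4 := pow_gcd_eq_one.2 ⟨e3, e2⟩
    rw [(Nat.Coprime.pow_right n ((Nat.coprime_primes hp Nat.prime_two).2 hp2)).gcd_eq_one,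
      pow_one, ← e1, inv_mul_eq_one, eq_mul_inv_iff_mul_eq] at e4
    exact e4
  refine ⟨s * r, mc, (cent _ mc ch cc).1, (cent _ mc ch cc).2.1, (cent _ mc ch cc).2.2, ch, ?_⟩
  have := Sm.comm (smc hD t s) hl' (H.allFix_N P.ht m2 _ hl' h2)
  simpa only [mul_inv_rev, mul_assoc] using this

end CL.RT
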